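import Mathlib.Algebra.Polynomial.Derivative
import Mathlib.Algebra.Polynomial.Coeff
import Mathlib.Algebra.Polynomial.Inductions
import Mathlib.Data.Nat.GCD.Basic
import Mathlib.SetTheory.Cardinal.Finite
import Mathlib.Tactic.NoncommRing
import Mathlib.Tactic.Abel
import Mathlib.Tactic.Linarith
import Mathlib.Tactic.Ring
import Mathlib.Tactic.Module
import Mathlib.Algebra.Polynomial.BigOperators

/-!
# Limits of conjugates of quadratic offenders

`X` is an additive subgroup of a ring with vanishing products, `y` squares to zero.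
`lead (T y) X` is the limit of `(1 - t y) X (1 + t y)` for `t → ∞`; it is computed with the
substitution `s = 1/t`, so that only polynomials are needed.
-/

set_option autoImplicit false

namespace Cfsg.Agent.TwoSubnormal

open Polynomial

variable {R : Type*} [Ring R]

/-- Polynomials with all coefficients in `A`. -/
noncomputable def co (A : AddSubgroup R) : AddSubgroup R[X] where
  carrier := {f | ∀ i, f.coeff i ∈ A}
  zero_mem' i := by simp
  add_mem' {f g} hf hg i := by rw [coeff_add]; exact add_mem (hf i) (hg i)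
  neg_mem' {f} hf i := by rw [coeff_neg]; exact neg_mem (hf i)

theorem mem_co {A : AddSubgroup R} {f : R[X]} : f ∈ co A ↔ ∀ i, f.coeff i ∈ A := Iff.rfl

theorem X_mul_mem_co {A : AddSubgroup R} {f : R[X]} : X * f ∈ co A ↔ f ∈ co A := by
  refine ⟨fun h i => by simpa [coeff_X_mul] using h (i + 1), fun h i => ?_⟩
  cases i with
  | zero => simp
  | succ n => rw [coeff_X_mul]; exact h n

theorem X_pow_mul_mem_co {A : AddSubgroup R} {f : R[X]} (k : ℕ) :
    X ^ k * f ∈ co A ↔ f ∈ co A := by
  induction k with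
  | zero => simp
  | succ n ih => rw [pow_succ', mul_assoc, X_mul_mem_co, ih]

theorem X_pow_mul_inj {k : ℕ} {f g : R[X]} (h : X ^ k * f = X ^ k * g) : f = g := by
  ext n
  simpa [coeff_X_pow_mul] using congrArg (fun q => q.coeff (n + k)) h

/-- Constant coefficients of the polynomials sent by `T` into `co A`. -/
noncomputable def lead (T : R[X] →+ R[X]) (A : AddSubgroup R) : AddSubgroup R :=
  ((co A).comap T).map (lcoeff R 0).toAddMonoidHom

theorem mem_lead {T : R[X] →+ R[X]} {A : AddSubgroup R} {r : R} :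
    r ∈ lead T A ↔ ∃ g, T g ∈ co A ∧ g.coeff 0 = r := by
  simp [lead, AddSubgroup.mem_map]

theorem succ_mul_pow_le (w : ℕ) : ∀ j : ℕ, (j + 1) * w ^ j ≤ (w + 1) ^ (j + 1)
  | 0 => by simp
  | j + 1 => by
    have h1 := succ_mul_pow_le w j
    have h2 : w ^ (j + 1) ≤ (w + 1) ^ (j + 1) := Nat.pow_le_pow_left (by omega) _
    have h3 : (w + 1) ^ (j + 1 + 1) = (w + 1) ^ (j + 1) * w + (w + 1) ^ (j + 1) := by ring
    have h4 := Nat.mul_le_mul_right w h1
    have h5 : (j + 1 + 1) * w ^ (j + 1) = (j + 1) * w ^ j * w + w ^ (j + 1) := by ring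
    omega

/-- The limit is at least as large as `A`. -/
theorem card_le_lead [Finite R] (A : AddSubgroup R) (T T' : R[X] →+ R[X]) (k : ℕ)
    (hX : ∀ g, T (X * g) = X * T g) (hdeg : ∀ f, (T' f).natDegree ≤ f.natDegree + 2)
    (hTT : ∀ f, T (T' f) = X ^ k * f) : Nat.card A ≤ Nat.card (lead T A) := by
  classical
  let W := lead T A
  have hlift : ∀ w : W, ∃ g, T g ∈ co A ∧ g.coeff 0 = (w : R) := fun w => mem_lead.mp w.2
  choose lift hl1 hl2 using hlift
  haveI : Fintype W := Fintype.ofFinite _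
  let D := Finset.univ.sup fun w : W => (lift w).natDegree
  have hD : ∀ w : W, (lift w).natDegree ≤ D := fun w =>
    Finset.le_sup (f := fun w : W => (lift w).natDegree) (Finset.mem_univ w)
  let L : ℕ → Type _ := fun d => {g : R[X] // T g ∈ co A ∧ g.natDegree ≤ d}
  have hfin : ∀ d, Finite (L d) := by
    intro d
    refine Finite.of_injective (fun g : L d => fun i : Fin (d + 1) => g.1.coeff i) ?_
    intro g g' h
    apply Subtype.ext
    ext i
    by_cases hi : i ≤ d
    · exact congrFun h ⟨i, by omega⟩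
    · rw [coeff_eq_zero_of_natDegree_lt (lt_of_le_of_lt g.2.2 (by omega)),
        coeff_eq_zero_of_natDegree_lt (lt_of_le_of_lt g'.2.2 (by omega))]
  have hstep : ∀ d, D ≤ d + 1 → Nat.card (L (d + 1)) ≤ Nat.card W * Nat.card (L d) := by
    intro d hd
    haveI := hfin d
    let w : L (d + 1) → W := fun g => ⟨g.1.coeff 0, mem_lead.mpr ⟨g.1, g.2.1, rfl⟩⟩
    let h : L (d + 1) → R[X] := fun g => (g.1 - lift (w g)).divX
    have hh : ∀ g, X * h g = g.1 - lift (w g) := by
      intro g
      have := X_mul_divX_add (g.1 - lift (w g))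
      rw [coeff_sub, hl2, sub_self, map_zero, add_zero] at this
      exact this
    have hmem : ∀ g, T (h g) ∈ co A ∧ (h g).natDegree ≤ d := by
      intro g
      refine ⟨?_, ?_⟩
      · rw [← X_mul_mem_co, ← hX, hh, map_sub]
        exact sub_mem g.2.1 (hl1 _)
      · show (g.1 - lift (w g)).divX.natDegree ≤ d
        rw [natDegree_divX_eq_natDegree_tsub_one]
        have := natDegree_sub_le g.1 (lift (w g))
        have := g.2.2
        have := hD (w g)
        omega
    rw [← Nat.card_prod]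
    refine Nat.card_le_card_of_injective (fun g => (w g, (⟨h g, hmem g⟩ : L d))) ?_
    intro g g' e
    simp only [Prod.mk.injEq] at e
    have e2 : h g = h g' := congrArg Subtype.val e.2
    have := hh g
    rw [e2, hh g', e.1, sub_left_inj] at this
    exact Subtype.ext this.symm
  have hup : ∀ j, Nat.card (L (D + j)) ≤ Nat.card W ^ j * Nat.card (L D) := by
    intro j
    induction j with
    | zero => simp
    | succ j ih =>
      calc Nat.card (L (D + j + 1)) ≤ Nat.card W * Nat.card (L (D + j)) := hstep _ (by omega)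
        _ ≤ Nat.card W * (Nat.card W ^ j * Nat.card (L D)) := Nat.mul_le_mul_left _ ih
        _ = _ := by rw [pow_succ']; ring
  have hlow : ∀ n, Nat.card A ^ (n + 1) ≤ Nat.card (L (n + 2)) := by
    intro n
    haveI := hfin (n + 2)
    rw [show Nat.card A ^ (n + 1) = Nat.card (Fin (n + 1) → A) by rw [Nat.card_fun, Nat.card_fin]]
    let f : (Fin (n + 1) → A) → R[X] := fun x => ∑ i : Fin (n + 1), monomial (i : ℕ) (x i : R)
    have hc : ∀ x (j : Fin (n + 1)), (f x).coeff j = (x j : R) := by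
      intro x j
      simp only [f, finsetSum_coeff, coeff_monomial]
      rw [Finset.sum_eq_single j]
      · simp
      · intro i _ hij
        rw [if_neg (fun e => hij (Fin.ext e))]
      · simp
    have hf : ∀ x, T (T' (f x)) ∈ co A ∧ (T' (f x)).natDegree ≤ n + 2 := by
      intro x
      refine ⟨?_, (hdeg _).trans (Nat.add_le_add_right ?_ 2)⟩
      · rw [hTT, X_pow_mul_mem_co]
        refine sum_mem fun i _ m => ?_
        rw [coeff_monomial]
        split
        · exact (x i).2
        · exact zero_mem _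
      · refine natDegree_sum_le_of_forall_le _ _ fun i _ => ?_
        exact (natDegree_monomial_le _).trans (by omega)
    refine Nat.card_le_card_of_injective (fun x => (⟨T' (f x), hf x⟩ : L (n + 2))) ?_
    intro x x' e
    have e' : f x = f x' := by
      have := congrArg (fun g : L (n + 2) => T g.1) e
      simp only [hTT] at this
      exact X_pow_mul_inj this
    funext j
    apply Subtype.ext
    rw [← hc x j, ← hc x' j, e']
  by_contra hlt
  push Not at hlt
  set w := Nat.card W with hw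
  set c := Nat.card (L D) with hcdef
  have hw0 : 0 < w := Nat.card_pos
  set j := c * w ^ 3 with hj
  have h1 : Nat.card A ^ (D + j + 1) ≤ w ^ (j + 2) * c := by
    calc Nat.card A ^ (D + j + 1) ≤ Nat.card (L (D + j + 2)) := hlow _
      _ = Nat.card (L (D + (j + 2))) := rfl
      _ ≤ _ := hup _
  have h2 : (w + 1) ^ (j + 1) ≤ Nat.card A ^ (D + j + 1) :=
    (Nat.pow_le_pow_left hlt _).trans (Nat.pow_le_pow_right (by omega) (by omega))
  have h3 := succ_mul_pow_le w j
  have h4 : w ^ (j + 2) * c ≤ j * w ^ j := by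
    rw [hj, show c * w ^ 3 * w ^ (c * w ^ 3) = w ^ (c * w ^ 3 + 2) * c * w by ring]
    exact Nat.le_mul_of_pos_right _ hw0
  have h5 : 0 < w ^ j := Nat.pow_pos hw0
  have h6 : (j + 1) * w ^ j = j * w ^ j + w ^ j := by ring
  omega

/-- `f ↦ (s - y) f (s + y)`. -/
noncomputable def Tmap (y : R) : R[X] →+ R[X] :=
  (AddMonoidHom.mulRight (X + C y)).comp (AddMonoidHom.mulLeft (X - C y))

/-- `f ↦ (s - y) f`. -/
noncomputable def Smap (y : R) : R[X] →+ R[X] := AddMonoidHom.mulLeft (X - C y)

theorem Tmap_apply (y : R) (f : R[X]) : Tmap y f = (X - C y) * f * (X + C y) := rfl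

theorem Smap_apply (y : R) (f : R[X]) : Smap y f = (X - C y) * f := rfl

variable {y : R}

theorem sub_mul_add_self (hy : y * y = 0) : (X - C y) * (X + C y) = (X : R[X]) ^ 2 := by
  have : C y * C y = (0 : R[X]) := by rw [← C_mul, hy, map_zero]
  rw [sub_mul, mul_add, mul_add, this, (commute_X (C y)).eq, pow_two]
  abel

theorem add_mul_sub_self (hy : y * y = 0) : (X + C y) * (X - C y) = (X : R[X]) ^ 2 := by
  have := sub_mul_add_self (y := -y) (by rw [neg_mul_neg, hy])
  simpa [sub_eq_add_neg] using this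

/-- `s` commutes with everything. -/
theorem Tmap_X_mul (y : R) (g : R[X]) : Tmap y (X * g) = X * Tmap y g := by
  rw [Tmap_apply, Tmap_apply, ← mul_assoc (X - C y), ← (commute_X (X - C y)).eq]
  simp only [mul_assoc]

theorem Smap_X_mul (y : R) (g : R[X]) : Smap y (X * g) = X * Smap y g := by
  rw [Smap_apply, Smap_apply, ← mul_assoc, ← (commute_X (X - C y)).eq, mul_assoc]

theorem X_pow_comm (k : ℕ) (f : R[X]) : f * X ^ k = X ^ k * f :=
  ((commute_X f).pow_left k).eq.symm

theorem Tmap_neg (hy : y * y = 0) (f : R[X]) : Tmap y (Tmap (-y) f) = X ^ 4 * f := by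
  have e1 : (X : R[X]) - C (-y) = X + C y := by rw [map_neg, sub_neg_eq_add]
  have e2 : (X : R[X]) + C (-y) = X - C y := by rw [map_neg, sub_eq_add_neg]
  rw [Tmap_apply, Tmap_apply, e1, e2]
  calc (X - C y) * ((X + C y) * f * (X - C y)) * (X + C y)
      = (X - C y) * (X + C y) * f * ((X - C y) * (X + C y)) := by simp only [mul_assoc]
    _ = _ := by rw [sub_mul_add_self hy, X_pow_comm 2 (X ^ 2 * f), ← mul_assoc, ← pow_add]

theorem Smap_neg (hy : y * y = 0) (f : R[X]) : Smap y (Smap (-y) f) = X ^ 2 * f := by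
  have e1 : (X : R[X]) - C (-y) = X + C y := by rw [map_neg, sub_neg_eq_add]
  rw [Smap_apply, Smap_apply, e1, ← mul_assoc, sub_mul_add_self hy]

theorem natDegree_lin_le (y : R) : (X + C y : R[X]).natDegree ≤ 1 := by
  refine (natDegree_add_le _ _).trans ?_
  simp [natDegree_X_le]

theorem natDegree_lin_le' (y : R) : (X - C y : R[X]).natDegree ≤ 1 := by
  refine (natDegree_sub_le _ _).trans ?_
  simp [natDegree_X_le]

theorem natDegree_Tmap_le (y : R) (f : R[X]) : (Tmap y f).natDegree ≤ f.natDegree + 2 := by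
  rw [Tmap_apply]
  refine natDegree_mul_le.trans ?_
  have h1 : ((X - C y) * f).natDegree ≤ (X - C y).natDegree + f.natDegree := natDegree_mul_le
  have := natDegree_lin_le y
  have := natDegree_lin_le' y
  omega

theorem natDegree_Smap_le (y : R) (f : R[X]) : (Smap y f).natDegree ≤ f.natDegree + 2 := by
  rw [Smap_apply]
  refine natDegree_mul_le.trans ?_
  have := natDegree_lin_le' y
  omega

theorem card_le_lead_Tmap [Finite R] (hy : y * y = 0) (A : AddSubgroup R) :
    Nat.card A ≤ Nat.card (lead (Tmap y) A) :=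
  card_le_lead A _ (Tmap (-y)) 4 (Tmap_X_mul y) (natDegree_Tmap_le _) (Tmap_neg hy)

theorem card_le_lead_Smap [Finite R] (hy : y * y = 0) (A : AddSubgroup R) :
    Nat.card A ≤ Nat.card (lead (Smap y) A) :=
  card_le_lead A _ (Smap (-y)) 2 (Smap_X_mul y) (natDegree_Smap_le _) (Smap_neg hy)

theorem co_mul_co_eq_zero {A B : AddSubgroup R} (h : ∀ a ∈ A, ∀ b ∈ B, a * b = 0) {f g : R[X]}
    (hf : f ∈ co A) (hg : g ∈ co B) : f * g = 0 := by
  ext n
  rw [coeff_mul, coeff_zero]
  exact Finset.sum_eq_zero fun x _ => h _ (hf _) _ (hg _)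

theorem lead_mul_lead_eq_zero (hy : y * y = 0) {A : AddSubgroup R}
    (hA : ∀ a ∈ A, ∀ b ∈ A, a * b = 0) {a b : R} (ha : a ∈ lead (Tmap y) A)
    (hb : b ∈ lead (Tmap y) A) : a * b = 0 := by
  obtain ⟨f, hf, rfl⟩ := mem_lead.mp ha
  obtain ⟨g, hg, rfl⟩ := mem_lead.mp hb
  have h0 := co_mul_co_eq_zero hA hf hg
  have h1 : Tmap y f * Tmap y g = X ^ 2 * Tmap y (f * g) := by
    rw [Tmap_apply, Tmap_apply, Tmap_apply]
    calc (X - C y) * f * (X + C y) * ((X - C y) * g * (X + C y))
        = (X - C y) * f * ((X + C y) * (X - C y)) * g * (X + C y) := by simp only [mul_assoc]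
      _ = X ^ 2 * ((X - C y) * (f * g) * (X + C y)) := by
        rw [add_mul_sub_self hy, X_pow_comm 2 ((X - C y) * f)]; simp only [mul_assoc]
  rw [h1, ← mul_zero (X ^ 2 : R[X])] at h0
  have h2 : Tmap (-y) (Tmap (-(-y)) (f * g)) = X ^ 4 * (f * g) :=
    Tmap_neg (by rw [neg_mul_neg, hy]) _
  rw [neg_neg, X_pow_mul_inj h0, map_zero, ← mul_zero (X ^ 4 : R[X])] at h2
  rw [← mul_coeff_zero, ← X_pow_mul_inj h2, coeff_zero]

theorem lead_mul_leadS_eq_zero (hy : y * y = 0) {A K : AddSubgroup R}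
    (hA : ∀ a ∈ A, ∀ b ∈ K, a * b = 0) {a b : R} (ha : a ∈ lead (Tmap y) A)
    (hb : b ∈ lead (Smap y) K) : a * b = 0 := by
  obtain ⟨f, hf, rfl⟩ := mem_lead.mp ha
  obtain ⟨g, hg, rfl⟩ := mem_lead.mp hb
  have h0 := co_mul_co_eq_zero hA hf hg
  have h1 : Tmap y f * Smap y g = X ^ 2 * Smap y (f * g) := by
    rw [Tmap_apply, Smap_apply, Smap_apply]
    calc (X - C y) * f * (X + C y) * ((X - C y) * g)
        = (X - C y) * f * ((X + C y) * (X - C y)) * g := by simp only [mul_assoc]
      _ = X ^ 2 * ((X - C y) * (f * g)) := by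
        rw [add_mul_sub_self hy, X_pow_comm 2 ((X - C y) * f)]; simp only [mul_assoc]
  rw [h1, ← mul_zero (X ^ 2 : R[X])] at h0
  have h2 : Smap (-y) (Smap (-(-y)) (f * g)) = X ^ 2 * (f * g) :=
    Smap_neg (by rw [neg_mul_neg, hy]) _
  rw [neg_neg, X_pow_mul_inj h0, map_zero, ← mul_zero (X ^ 2 : R[X])] at h2
  rw [← mul_coeff_zero, ← X_pow_mul_inj h2, coeff_zero]

theorem leadS_mul_right (hy : y * y = 0) {K : AddSubgroup R} {e : R}
    (hK : ∀ r ∈ K, r * e = r) {r : R} (hr : r ∈ lead (Smap y) K) : r * e = r := by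
  obtain ⟨g, hg, rfl⟩ := mem_lead.mp hr
  have h1 : Smap y (g * C e) = Smap y g := by
    rw [Smap_apply, ← mul_assoc, ← Smap_apply]
    ext n
    rw [coeff_mul_C]
    exact hK _ (hg n)
  have h2 := Smap_neg (y := -y) (by rw [neg_mul_neg, hy]) (g * C e)
  rw [neg_neg, h1] at h2
  have h3 := Smap_neg (y := -y) (by rw [neg_mul_neg, hy]) g
  rw [neg_neg, h2] at h3
  have h4 := congrArg (fun q => q.coeff 0) (X_pow_mul_inj h3)
  simpa [coeff_mul_C] using h4

theorem mem_of_zsmul {A : AddSubgroup R} {p : ℕ} (hp : (p : R) = 0) {k : ℤ}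
    (hk : Int.gcd k p = 1) {a : R} (h : k • a ∈ A) : a ∈ A := by
  have hbez := Int.gcd_eq_gcd_ab k p
  rw [hk] at hbez
  have hpa : (p : ℤ) • a = 0 := by rw [zsmul_eq_mul]; simp [hp]
  have : a = Int.gcdA k p • (k • a) + Int.gcdB k p • ((p : ℤ) • a) := by
    rw [smul_smul, smul_smul, ← add_smul, mul_comm (Int.gcdA k p), mul_comm (Int.gcdB k p), ← hbez]
    simp
  rw [this, hpa, smul_zero, add_zero]
  exact zsmul_mem h _

theorem gcd_small {p : ℕ} (hp : p.Prime) (hp5 : 5 ≤ p) {n : ℕ}
    (hn : n ∣ 24) : Int.gcd (n : ℤ) p = 1 := by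
  rw [Int.gcd_natCast_natCast]
  refine Nat.Coprime.coprime_dvd_left hn ?_
  rw [Nat.coprime_comm, hp.coprime_iff_not_dvd]
  intro hd
  rw [show (24 : ℕ) = 2 * (2 * (2 * 3)) from rfl] at hd
  have h2 : ∀ q, q ∣ 2 ∨ q ∣ 3 → q ≤ 3 := by
    rintro q (h | h) <;> have := Nat.le_of_dvd (by norm_num) h <;> omega
  rcases hp.dvd_mul.mp hd with h | h
  · have := h2 p (Or.inl h); omega
  rcases hp.dvd_mul.mp h with h | h
  · have := h2 p (Or.inl h); omega
  rcases hp.dvd_mul.mp h with h | h
  · have := h2 p (Or.inl h); omega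
  · have := h2 p (Or.inr h); omega

/-- A polynomial map of degree four with values in `A` has coefficients in `A`. -/
theorem coeff_of_values {A : AddSubgroup R} {p : ℕ} (hp : p.Prime) (hp5 : 5 ≤ p)
    (hR : (p : R) = 0) {q₀ q₁ q₂ q₃ q₄ : R}
    (h : ∀ n : ℤ, q₀ + n • q₁ + n ^ 2 • q₂ + n ^ 3 • q₃ + n ^ 4 • q₄ ∈ A) :
    q₀ ∈ A ∧ q₁ ∈ A ∧ q₂ ∈ A ∧ q₃ ∈ A ∧ q₄ ∈ A := by
  set F : ℤ → R := fun n => q₀ + n • q₁ + n ^ 2 • q₂ + n ^ 3 • q₃ + n ^ 4 • q₄ with hF
  have hm : ∀ n, F n ∈ A := h
  have h0 : q₀ ∈ A := by simpa [hF] using hm 0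
  have key : ∀ (k : ℤ) (a : R), Int.gcd k p = 1 → k • a ∈ A → a ∈ A :=
    fun k a hk ha => mem_of_zsmul hR hk ha
  have h4 : q₄ ∈ A := by
    refine key 24 _ (gcd_small hp hp5 dvd_rfl) ?_
    have e : (24 : ℤ) • q₄ = (F 2 + F (-2)) - (4 : ℤ) • (F 1 + F (-1)) + (6 : ℤ) • q₀ := by
      simp only [hF]; match_scalars <;> norm_num
    rw [e]
    exact add_mem (sub_mem (add_mem (hm 2) (hm (-2))) (zsmul_mem (add_mem (hm 1) (hm (-1))) _))
      (zsmul_mem h0 _)
  have h3 : q₃ ∈ A := by
    refine key 12 _ (gcd_small hp hp5 (by norm_num)) ?_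
    have e : (12 : ℤ) • q₃ = (F 2 - F (-2)) - (2 : ℤ) • (F 1 - F (-1)) := by
      simp only [hF]; match_scalars <;> norm_num
    rw [e]
    exact sub_mem (sub_mem (hm 2) (hm (-2))) (zsmul_mem (sub_mem (hm 1) (hm (-1))) _)
  have h2 : q₂ ∈ A := by
    refine key 2 _ (gcd_small hp hp5 (by norm_num)) ?_
    have e : (2 : ℤ) • q₂ = (F 1 + F (-1)) - (2 : ℤ) • q₀ - (2 : ℤ) • q₄ := by
      simp only [hF]; match_scalars <;> norm_num
    rw [e]
    exact sub_mem (sub_mem (add_mem (hm 1) (hm (-1))) (zsmul_mem h0 _)) (zsmul_mem h4 _)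
  have h1 : q₁ ∈ A := by
    refine key 2 _ (gcd_small hp hp5 (by norm_num)) ?_
    have e : (2 : ℤ) • q₁ = (F 1 - F (-1)) - (2 : ℤ) • q₃ := by
      simp only [hF]; match_scalars <;> norm_num
    rw [e]
    exact sub_mem (sub_mem (hm 1) (hm (-1))) (zsmul_mem h3 _)
  exact ⟨h0, h1, h2, h3, h4⟩

/-- The limit inherits invariance under `σ · τ` from all conjugates of `σ`. -/
theorem lead_conj_mem {p : ℕ} (hp : p.Prime) (hp5 : 5 ≤ p) (hR : (p : R) = 0) (hy : y * y = 0)
    {A : AddSubgroup R} {σ τ : R}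
    (hconj : ∀ n : ℤ, ∀ a ∈ A, ((1 - n • y) * σ * (1 + n • y)) * a *
      ((1 - n • y) * τ * (1 + n • y)) ∈ A)
    {r : R} (hr : r ∈ lead (Tmap y) A) : σ * r * τ ∈ lead (Tmap y) A := by
  obtain ⟨g, hg, rfl⟩ := mem_lead.mp hr
  refine mem_lead.mpr ⟨C σ * g * C τ, ?_, by simp [mul_coeff_zero]⟩
  set sa := σ * y - y * σ
  set sc := -(y * σ * y)
  set ta := τ * y - y * τ
  set tc := -(y * τ * y)
  have hlin : ∀ ρ : R, Tmap y (C ρ) =
      C ρ * X ^ 2 + C (ρ * y - y * ρ) * X + C (-(y * ρ * y)) := by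
    intro ρ
    simp only [Tmap_apply, sub_mul, mul_add, map_sub, map_neg, map_mul, pow_two,
      ← mul_assoc, (commute_X (C ρ)).eq, (commute_X (C y)).eq, X_mul_C]
    simp only [mul_assoc, X_mul_C]
    abel
  have hmon : ∀ a ∈ A, Tmap y (C σ) * C a * Tmap y (C τ) ∈ co A := by
    intro a ha
    obtain ⟨q0, q1, q2, q3, q4⟩ := coeff_of_values (A := A) hp hp5 hR
      (q₀ := σ * a * τ) (q₁ := sa * a * τ + σ * a * ta)
      (q₂ := sc * a * τ + sa * a * ta + σ * a * tc) (q₃ := sc * a * ta + sa * a * tc)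
      (q₄ := sc * a * tc) (by
        intro n
        have := hconj n a ha
        convert this using 1
        simp only [sa, sc, ta, tc, sub_mul, mul_add, add_mul, mul_sub, one_mul, mul_one,
          smul_mul_assoc, mul_smul_comm, smul_add, smul_sub, smul_neg, neg_mul, mul_neg,
          mul_assoc, smul_smul]
        match_scalars <;> ring)
    have e : Tmap y (C σ) * C a * Tmap y (C τ) = C (σ * a * τ) * X ^ 4 +
        C (sa * a * τ + σ * a * ta) * X ^ 3 +
        C (sc * a * τ + sa * a * ta + σ * a * tc) * X ^ 2 +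
        C (sc * a * ta + sa * a * tc) * X ^ 1 + C (sc * a * tc) * X ^ 0 := by
      have hc : ∀ (u v : R) (i j : ℕ), C u * X ^ i * C a * (C v * X ^ j) =
          C (u * a * v) * (X : R[X]) ^ (i + j) := by
        intro u v i j
        calc C u * X ^ i * C a * (C v * X ^ j) = C u * (X ^ i * (C a * C v)) * X ^ j := by
              simp only [mul_assoc]
          _ = _ := by rw [← X_pow_comm i (C a * C v)]; simp only [map_mul, pow_add, mul_assoc]
      rw [hlin σ, hlin τ]
      have e2 : ∀ u v : R, (C u * X + C v : R[X]) = C u * X ^ 1 + C v * X ^ 0 := by simp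
      rw [add_assoc, e2, add_assoc (C τ * X ^ 2), e2]
      simp only [add_mul, mul_add, hc, map_add, sa, sc, ta, tc]
      norm_num
      abel
    rw [e]
    have hCX : ∀ q ∈ A, ∀ i : ℕ, C q * (X : R[X]) ^ i ∈ co A := by
      intro q hq i m
      rw [coeff_C_mul_X_pow]
      split
      · exact hq
      · exact zero_mem _
    exact add_mem (add_mem (add_mem (add_mem (hCX _ q0 _) (hCX _ q1 _)) (hCX _ q2 _))
      (hCX _ q3 _)) (hCX _ q4 _)
  have hall : Tmap y (C σ) * Tmap y g * Tmap y (C τ) ∈ co A := by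
    rw [(Tmap y g).as_sum_range_C_mul_X_pow, Finset.mul_sum, Finset.sum_mul]
    refine sum_mem fun i _ => ?_
    rw [X_pow_comm i (C _), ← mul_assoc, X_pow_comm i (Tmap y (C σ))]
    simp only [mul_assoc]
    rw [X_pow_mul_mem_co, ← mul_assoc]
    exact hmon _ (hg i)
  have e : Tmap y (C σ) * Tmap y g * Tmap y (C τ) = X ^ 4 * Tmap y (C σ * g * C τ) := by
    simp only [Tmap_apply]
    calc (X - C y) * C σ * (X + C y) * ((X - C y) * g * (X + C y)) *
          ((X - C y) * C τ * (X + C y))
        = (X - C y) * C σ * ((X + C y) * (X - C y)) * g * ((X + C y) * (X - C y)) * C τ *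
          (X + C y) := by simp only [mul_assoc]
      _ = X ^ 4 * ((X - C y) * (C σ * g * C τ) * (X + C y)) := by
        rw [add_mul_sub_self hy, X_pow_comm 2 ((X - C y) * C σ),
          X_pow_comm 2 (X ^ 2 * ((X - C y) * C σ) * g), ← mul_assoc (X ^ 2) (X ^ 2 * _),
          ← mul_assoc (X ^ 2) (X ^ 2), ← pow_add]
        simp only [mul_assoc]
  rw [e, X_pow_mul_mem_co] at hall
  exact hall

/-- The limit is invariant under the curve parameter: `[y, ·]`. -/
theorem lead_comm_mem (hy : y * y = 0) {A : AddSubgroup R} {r : R}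
    (hr : r ∈ lead (Tmap y) A) : r * y - y * r ∈ lead (Tmap y) A := by
  obtain ⟨g, hg, rfl⟩ := mem_lead.mp hr
  refine mem_lead.mpr ⟨g * C y - C y * g - X ^ 2 * derivative g, ?_, by
    simp [mul_coeff_zero]⟩
  have e : Tmap y (g * C y - C y * g - X ^ 2 * derivative g) =
      (2 : ℤ) • (X * Tmap y g) - X ^ 2 * derivative (Tmap y g) := by
    have hd : derivative (Tmap y g) = Tmap y (derivative g) + (g * (X + C y) + (X - C y) * g) := by
      simp only [Tmap_apply, derivative_mul, derivative_sub, derivative_add, derivative_X,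
        derivative_C, sub_zero, add_zero, one_mul, mul_one]
      noncomm_ring
    rw [hd]
    simp only [Tmap_apply]
    have key : ∀ (s a b u : R[X]), (∀ z : R[X], z * s = s * z) → a * a = 0 →
        (s - a) * (b * a - a * b - s ^ 2 * u) * (s + a) =
          (2 : ℤ) • (s * ((s - a) * b * (s + a))) -
            s ^ 2 * ((s - a) * u * (s + a) + (b * (s + a) + (s - a) * b)) := by
      intro s a b u hs ha
      have hs' : ∀ z w : R[X], z * (s * w) = s * (z * w) := fun z w => by
        rw [← mul_assoc, hs, mul_assoc]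
      have ha' : ∀ w : R[X], a * (a * w) = 0 := fun w => by rw [← mul_assoc, ha, zero_mul]
      simp only [pow_two, sub_mul, mul_add, mul_sub, add_mul, mul_assoc, hs a, hs b, hs u, hs',
        ha, ha', mul_zero, zero_mul, smul_add, smul_sub, sub_zero, zero_sub, add_zero, zero_add]
      abel
    exact key X (C y) g (derivative g) (fun z => (commute_X z).eq.symm)
      (by rw [← C_mul, hy, map_zero])
  rw [e]
  refine sub_mem (zsmul_mem (X_mul_mem_co.mpr hg) _) ((X_pow_mul_mem_co 2).mpr fun i => ?_)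
  rw [coeff_derivative]
  have : (Tmap y g).coeff (i + 1) * ((i : R) + 1) = (i + 1) • (Tmap y g).coeff (i + 1) := by
    rw [← Nat.cast_add_one, nsmul_eq_mul, Nat.cast_comm]
  rw [this]
  exact nsmul_mem (hg _) _

/-- Elements of the limit are combinations of `x`, `[y, x]`, `y x y`. -/
theorem lead_decomp (hy : y * y = 0) {A : AddSubgroup R} {r : R} (hr : r ∈ lead (Tmap y) A) :
    ∃ a ∈ A, ∃ b ∈ A, ∃ c ∈ A, r = a + (y * b - b * y) - y * c * y := by
  obtain ⟨g, hg, rfl⟩ := mem_lead.mp hr
  have h := Tmap_neg (y := -y) (by rw [neg_mul_neg, hy]) g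
  rw [neg_neg] at h
  set f := Tmap y g with hf
  refine ⟨f.coeff 2, hg 2, f.coeff 3, hg 3, f.coeff 4, hg 4, ?_⟩
  have e : Tmap (-y) f = X * (X * f) + X * (C y * f - f * C y) - C y * f * C y := by
    have e1 : (X : R[X]) - C (-y) = X + C y := by rw [map_neg, sub_neg_eq_add]
    have e2 : (X : R[X]) + C (-y) = X - C y := by rw [map_neg, sub_eq_add_neg]
    rw [Tmap_apply, e1, e2]
    simp only [add_mul, mul_sub, ← (commute_X (C y * f)).eq, ← (commute_X (X * f)).eq]
    simp only [mul_assoc]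
    abel
  have h4 := congrArg (fun q => q.coeff 4) (e.symm.trans h)
  simp only [coeff_sub, coeff_add, coeff_X_mul, coeff_C_mul, coeff_mul_C, coeff_X_pow_mul'] at h4
  simpa using h4.symm

/-- Three square-zero subgroups with commutators in the intersections: a square-zero sum
lifts to the product of their unipotent groups. -/
theorem one_add_eq_prod {A B D : AddSubgroup R} {k : ℤ} (hk : ∀ r : R, (2 * k) • r = r)
    (hAA : ∀ u ∈ A, ∀ v ∈ A, u * v = 0) (hBB : ∀ u ∈ B, ∀ v ∈ B, u * v = 0)
    (hDD : ∀ u ∈ D, ∀ v ∈ D, u * v = 0)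
    (hAB : ∀ u ∈ A, ∀ v ∈ B, u * v - v * u ∈ A ∧ u * v - v * u ∈ B)
    (hAD : ∀ u ∈ A, ∀ v ∈ D, u * v - v * u ∈ A ∧ u * v - v * u ∈ D)
    (hBD : ∀ u ∈ B, ∀ v ∈ D, u * v - v * u ∈ B ∧ u * v - v * u ∈ D)
    {a b c : R} (ha : a ∈ A) (hb : b ∈ B) (hc : c ∈ D)
    (hz : (a + b + c) * (a + b + c) = 0) :
    ∃ d₁ ∈ A, ∃ d₂ ∈ A, ∃ d₃ ∈ B, 1 + (a + b + c) =
      (1 + a) * (1 + b) * (1 + c) * ((1 + d₁) * (1 + d₂) * (1 + d₃)) := by
  refine ⟨-(k • (a * b - b * a)), neg_mem (zsmul_mem (hAB a ha b hb).1 _),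
    -(k • (a * c - c * a)), neg_mem (zsmul_mem (hAD a ha c hc).1 _),
    -(k • (b * c - c * b)), neg_mem (zsmul_mem (hBD b hb c hc).1 _), ?_⟩
  have u0 := hAB a ha b hb
  have v0 := hAD a ha c hc
  have w0 := hBD b hb c hc
  -- products inside one subgroup
  have aa := hAA a ha a ha
  have bb := hBB b hb b hb
  have cc := hDD c hc c hc
  -- `x y x = 0`
  have tri : ∀ {S : AddSubgroup R}, (∀ u ∈ S, ∀ v ∈ S, u * v = 0) → ∀ x ∈ S, ∀ y : R,
      x * y - y * x ∈ S → x * y * x = 0 := by
    intro S hS x hx w hw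
    have h := hS _ hw _ hx
    rw [sub_mul, mul_assoc w, hS x hx x hx, mul_zero, sub_zero] at h
    exact h
  have aba := tri hAA a ha b u0.1
  have aca := tri hAA a ha c v0.1
  have bab := tri hBB b hb a (by simpa using neg_mem u0.2)
  have bcb := tri hBB b hb c w0.1
  have cac := tri hDD c hc a (by simpa using neg_mem v0.2)
  have cbc := tri hDD c hc b (by simpa using neg_mem w0.2)
  set u := a * b - b * a
  set v := a * c - c * a
  set w := b * c - c * b
  -- products of two commutators
  have uv := hAA u u0.1 v v0.1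
  have uw := hBB u u0.2 w w0.1
  have vw := hDD v v0.2 w w0.2
  -- `a u = 0` etc.
  have au := hAA a ha u u0.1
  have av := hAA a ha v v0.1
  have bu := hBB b hb u u0.2
  have bw := hBB b hb w w0.1
  have cv := hDD c hc v v0.2
  have cw := hDD c hc w w0.2
  have hz1 : a * b + b * a + a * c + c * a + b * c + c * b = 0 := by
    calc a * b + b * a + a * c + c * a + b * c + c * b
        = (a + b + c) * (a + b + c) - a * a - b * b - c * c := by noncomm_ring
      _ = 0 := by rw [hz, aa, bb, cc]; simp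
  have m1 : a * b * c + a * c * b = 0 := by
    calc a * b * c + a * c * b = a * (a * b + b * a + a * c + c * a + b * c + c * b)
          - (a * a) * b - a * b * a - (a * a) * c - a * c * a := by noncomm_ring
      _ = 0 := by rw [hz1, aa, aba, aca]; simp
  have m2 : b * c * a + c * b * a = 0 := by
    calc b * c * a + c * b * a = (a * b + b * a + a * c + c * a + b * c + c * b) * a
          - a * b * a - b * (a * a) - a * c * a - c * (a * a) := by noncomm_ring
      _ = 0 := by rw [hz1, aa, aba, aca]; simp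
  have m3 : b * a * c + b * c * a = 0 := by
    calc b * a * c + b * c * a = b * (a * b + b * a + a * c + c * a + b * c + c * b)
          - b * a * b - (b * b) * a - (b * b) * c - b * c * b := by noncomm_ring
      _ = 0 := by rw [hz1, bb, bab, bcb]; simp
  have m4 : a * b * c + b * a * c = 0 := by
    calc a * b * c + b * a * c = (a * b + b * a + a * c + c * a + b * c + c * b) * c
          - a * (c * c) - c * a * c - b * (c * c) - c * b * c := by noncomm_ring
      _ = 0 := by rw [hz1, cc, cac, cbc]; simp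
  have m5 : c * a * b + c * b * a = 0 := by
    calc c * a * b + c * b * a = c * (a * b + b * a + a * c + c * a + b * c + c * b)
          - c * a * c - (c * c) * a - (c * c) * b - c * b * c := by noncomm_ring
      _ = 0 := by rw [hz1, cc, cac, cbc]; simp
  -- the halved commutators
  set d := k • u + k • v + k • w with hd
  have prod3 : (1 + -(k • u)) * (1 + -(k • v)) * (1 + -(k • w)) = 1 - d := by
    simp only [hd, mul_add, add_mul, one_mul, mul_one, neg_mul, mul_neg, neg_neg,
      smul_mul_assoc, mul_smul_comm, uv, uw, vw, smul_zero, neg_zero, mul_zero, zero_mul,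
      mul_assoc]
    abel
  have hd2 : a * b + a * c + b * c = d := by
    have e : a * b + a * c + b * c = k • ((2 : ℤ) • (a * b + a * c + b * c)) := by
      rw [smul_smul, mul_comm, hk]
    rw [e, hd, ← smul_add, ← smul_add]
    congr 1
    calc (2 : ℤ) • (a * b + a * c + b * c) = u + v + w +
          (a * b + b * a + a * c + c * a + b * c + c * b) := by
          simp only [u, v, w, two_zsmul]; abel
      _ = _ := by rw [hz1, add_zero]
  have hzd : (a + b + c) * d = a * b * c := by
    have e : (a + b + c) * d = k • (a * w + b * v + c * u) := by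
      simp only [hd, mul_add, add_mul, mul_smul_comm, au, av, bu, bw, cv, cw, smul_zero,
        add_zero, zero_add, smul_add]
      abel
    have e2 : a * w + b * v + c * u = (2 : ℤ) • (a * b * c) := by
      have f1 : a * c * b = -(a * b * c) := eq_neg_of_add_eq_zero_right m1
      have f2 : b * a * c = -(a * b * c) := eq_neg_of_add_eq_zero_right m4
      have f3 : b * c * a = a * b * c := by
        rw [eq_neg_of_add_eq_zero_right m3, f2, neg_neg]
      have f4 : c * b * a = -(a * b * c) := by rw [eq_neg_of_add_eq_zero_right m2, f3]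
      have f5 : c * a * b = a * b * c := by rw [eq_neg_of_add_eq_zero_left m5, f4, neg_neg]
      simp only [u, v, w, mul_sub, ← mul_assoc, f1, f2, f3, f4, f5, two_zsmul]
      abel
    rw [e, e2, smul_smul, mul_comm, hk]
  have hdd : d * d = 0 := by
    have vu := hAA v v0.1 u u0.1
    have wu := hBB w w0.1 u u0.2
    have wv := hDD w w0.2 v v0.2
    simp only [hd, mul_add, add_mul, smul_mul_assoc, mul_smul_comm, uv, uw, vw, vu, wu, wv,
      hAA u u0.1 u u0.1, hAA v v0.1 v v0.1, hBB w w0.1 w w0.1, smul_zero, add_zero]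
  have habcd : a * b * c * d = 0 := by
    rw [← hzd, mul_assoc, hdd, mul_zero]
  rw [prod3]
  symm
  calc (1 + a) * (1 + b) * (1 + c) * (1 - d)
      = 1 + (a + b + c) + (a * b + a * c + b * c) + a * b * c - d - (a + b + c) * d
          - (a * b + a * c + b * c) * d - a * b * c * d := by noncomm_ring
    _ = 1 + (a + b + c) := by rw [hd2, hzd, hdd, habcd]; abel

end Cfsg.Agent.TwoSubnormal
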