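import Cfsg.Agent.Lib.TwoSubnormal.Ring
import Mathlib.GroupTheory.Nilpotent
import Mathlib.GroupTheory.PGroup

/-!
# Quadratic offenders normal in their normal closure

A finite `p`-group `P`, `p ≥ 5`, faithfully represented in a finite ring `R` of characteristic `p`.
The measure of `A ≤ P` is `|A|` times the order of the right annihilator of `A - 1` in `R e`.
-/

set_option autoImplicit false

namespace Cfsg.Agent.TwoSubnormal

variable {P R : Type*} [Group P] [Ring R] (ρ : P →* R) (e : R)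

/-- `A` acts quadratically. -/
def IsQuad (A : Subgroup P) : Prop := ∀ a ∈ A, ∀ b ∈ A, (ρ a - 1) * (ρ b - 1) = 0

/-- The vectors (inside `R e`) fixed by `A`. -/
def kann (A : Subgroup P) : AddSubgroup R where
  carrier := {r | (∀ a ∈ A, (ρ a - 1) * r = 0) ∧ r * e = r}
  zero_mem' := by simp
  add_mem' {r s} hr hs :=
    ⟨fun a ha => by rw [mul_add, hr.1 a ha, hs.1 a ha, add_zero], by rw [add_mul, hr.2, hs.2]⟩
  neg_mem' {r} hr := ⟨fun a ha => by rw [mul_neg, hr.1 a ha, neg_zero], by rw [neg_mul, hr.2]⟩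

/-- The measure. -/
noncomputable def meas (A : Subgroup P) : ℕ := Nat.card A * Nat.card (kann ρ e A)

variable {ρ} {e}

theorem rho_zpow {b : P} {y : R} (hb : ρ b = 1 + y) (hy : y * y = 0) :
    ∀ n : ℤ, ρ (b ^ n) = 1 + n • y := by
  have hinv : ρ b⁻¹ = 1 - y := by
    have h1 : ρ b⁻¹ * (1 + y) = 1 := by rw [← hb, ← map_mul, inv_mul_cancel, map_one]
    calc ρ b⁻¹ = ρ b⁻¹ * ((1 + y) * (1 - y)) := by
          rw [show (1 + y) * (1 - y) = 1 - y * y by noncomm_ring, hy, sub_zero, mul_one]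
      _ = 1 - y := by rw [← mul_assoc, h1, one_mul]
  intro n
  induction n using Int.induction_on with
  | zero => simp
  | succ n ih =>
    rw [zpow_add_one, map_mul, ih, hb, add_mul, mul_add, one_mul, one_mul, mul_add, mul_one,
      smul_mul_assoc, hy, smul_zero, add_zero, add_smul, one_smul]
    abel
  | pred n ih =>
    rw [zpow_sub_one, map_mul, ih, hinv, add_mul, mul_sub, one_mul, one_mul, mul_sub, mul_one,
      smul_mul_assoc, hy, smul_zero, sub_zero, sub_smul, one_smul]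
    abel

theorem rho_inv {b : P} {y : R} (hb : ρ b = 1 + y) (hy : y * y = 0) : ρ b⁻¹ = 1 - y := by
  have := rho_zpow hb hy (-1)
  simpa [sub_eq_add_neg] using this

/-- The set `A - 1` of a quadratic subgroup. -/
def nilPart {A : Subgroup P} (hA : IsQuad ρ A) : AddSubgroup R where
  carrier := {r | ∃ a ∈ A, ρ a - 1 = r}
  zero_mem' := ⟨1, one_mem _, by simp⟩
  add_mem' := by
    rintro _ _ ⟨a, ha, rfl⟩ ⟨b, hb, rfl⟩
    refine ⟨a * b, mul_mem ha hb, ?_⟩
    have := hA a ha b hb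
    calc ρ (a * b) - 1 = (ρ a - 1) * (ρ b - 1) + ((ρ a - 1) + (ρ b - 1)) := by
          rw [map_mul]; noncomm_ring
      _ = _ := by rw [this, zero_add]
  neg_mem' := by
    rintro _ ⟨a, ha, rfl⟩
    refine ⟨a⁻¹, inv_mem ha, ?_⟩
    rw [rho_inv (y := ρ a - 1) (by abel) (hA a ha a ha)]
    abel

theorem mem_nilPart {A : Subgroup P} (hA : IsQuad ρ A) {a : P} (ha : a ∈ A) :
    ρ a - 1 ∈ nilPart hA := ⟨a, ha, rfl⟩

theorem nilPart_mul {A : Subgroup P} (hA : IsQuad ρ A) :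
    ∀ u ∈ nilPart hA, ∀ v ∈ nilPart hA, u * v = 0 := by
  rintro _ ⟨a, ha, rfl⟩ _ ⟨b, hb, rfl⟩
  exact hA a ha b hb

/-- Conjugate. -/
abbrev conjBy (g : P) (A : Subgroup P) : Subgroup P := A.map (MulAut.conj g).toMonoidHom

theorem isQuad_conjBy {A : Subgroup P} (hA : IsQuad ρ A) (g : P) : IsQuad ρ (conjBy g A) := by
  rintro _ ⟨a, ha, rfl⟩ _ ⟨b, hb, rfl⟩
  have h1 : ∀ c : P, ρ (g * c * g⁻¹) - 1 = ρ g * (ρ c - 1) * ρ g⁻¹ := by
    intro c
    rw [map_mul, map_mul, mul_sub, sub_mul, mul_one, ← map_mul ρ g g⁻¹, mul_inv_cancel, map_one]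
  simp only [MulEquiv.coe_toMonoidHom, MulAut.conj_apply, h1]
  calc ρ g * (ρ a - 1) * ρ g⁻¹ * (ρ g * (ρ b - 1) * ρ g⁻¹)
      = ρ g * ((ρ a - 1) * (ρ (g⁻¹ * g) * (ρ b - 1))) * ρ g⁻¹ := by
        rw [map_mul]; simp only [mul_assoc]
    _ = 0 := by rw [inv_mul_cancel, map_one, one_mul, hA a ha b hb, mul_zero, zero_mul]

/-- A quadratic element normalising a quadratic subgroup: the commutator stays inside. -/
theorem comm_mem {p : ℕ} (hR : (p : R) = 0) (h2 : Int.gcd 2 p = 1) {A : Subgroup P}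
    (hA : IsQuad ρ A) {s : P} (hs : s ∈ Subgroup.normalizer (A : Set P)) {u : R}
    (hu : ρ s = 1 + u) (huu : u * u = 0) {x : R} (hx : x ∈ nilPart hA) :
    u * x - x * u ∈ nilPart hA := by
  obtain ⟨a, ha, rfl⟩ := hx
  have hc : ∀ t ∈ Subgroup.normalizer (A : Set P), ρ t * (ρ a - 1) * ρ t⁻¹ ∈ nilPart hA := by
    intro t ht
    have := mem_nilPart hA ((Subgroup.mem_normalizer_iff.mp ht a).mp ha)
    rwa [map_mul, map_mul, show ρ t * ρ a * ρ t⁻¹ - 1 = ρ t * (ρ a - 1) * ρ t⁻¹ by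
      rw [mul_sub, sub_mul, mul_one, ← map_mul ρ t t⁻¹, mul_inv_cancel, map_one]] at this
  have h1 := hc s hs
  have h1' := hc s⁻¹ (inv_mem hs)
  rw [hu, rho_inv hu huu] at h1
  rw [inv_inv, hu, rho_inv hu huu] at h1'
  refine mem_of_zsmul hR h2 ?_
  have : (2 : ℤ) • (u * (ρ a - 1) - (ρ a - 1) * u) =
      (1 + u) * (ρ a - 1) * (1 - u) - (1 - u) * (ρ a - 1) * (1 + u) := by
    simp only [two_zsmul]; noncomm_ring
  rw [this]
  exact sub_mem h1 h1'

theorem rho_conj_sub_one (g a : P) : ρ (g * a * g⁻¹) - 1 = ρ g * (ρ a - 1) * ρ g⁻¹ := by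
  rw [map_mul, map_mul, mul_sub, sub_mul, mul_one, ← map_mul ρ g g⁻¹, mul_inv_cancel, map_one]

variable [Finite P]

theorem mem_normalizer_of_conj {A : Subgroup P} {g : P} (h : ∀ a ∈ A, g * a * g⁻¹ ∈ A) :
    g ∈ Subgroup.normalizer (A : Set P) :=
  Subgroup.mem_normalizer_fintype h

theorem step [Finite R] {p : ℕ} (hp : p.Prime) (hp5 : 5 ≤ p) (hR : (p : R) = 0)
    (hinj : Function.Injective ρ) {H A : Subgroup P} (hAH : A ≤ H)
    (hHA : H ≤ Subgroup.normalizer (A : Set P)) (hA : IsQuad ρ A) {b : P}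
    (hb : (ρ b - 1) * (ρ b - 1) = 0) (hbH : b ∈ Subgroup.normalizer (H : Set P)) :
    ∃ A' : Subgroup P, A' ≤ H ∧ IsQuad ρ A' ∧ Nat.card A ≤ Nat.card A' ∧
      Nat.card (kann ρ e A) ≤ Nat.card (kann ρ e A') ∧
      H ⊔ Subgroup.closure {b} ≤ Subgroup.normalizer (A' : Set P) := by
  set y := ρ b - 1 with hy'
  have hyb : ρ b = 1 + y := by rw [hy']; abel
  have hbinv : ρ b⁻¹ = 1 - y := rho_inv hyb hb
  have h2 : Int.gcd 2 p = 1 := gcd_small hp hp5 (n := 2) (by norm_num)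
  obtain ⟨m, hm⟩ := hp.odd_of_ne_two (by omega)
  set k : ℤ := (m : ℤ) + 1 with hk'
  have hk : ∀ r : R, (2 * k) • r = r := by
    intro r
    have : (2 * k : ℤ) = (p : ℤ) + 1 := by rw [hk', hm]; push_cast; ring
    rw [this, add_smul, one_smul, zsmul_eq_mul, Int.cast_natCast, hR, zero_mul, zero_add]
  set X0 := nilPart hA
  set Am := conjBy b⁻¹ A with hAm'
  set Ap := conjBy b A with hAp'
  set Xm := nilPart (isQuad_conjBy hA b⁻¹)
  set Xp := nilPart (isQuad_conjBy hA b)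
  have hconjH : ∀ g ∈ Subgroup.normalizer (H : Set P), ∀ h ∈ H, g * h * g⁻¹ ∈ H :=
    fun g hg h hh => (Subgroup.mem_normalizer_iff.mp hg h).mp hh
  have hAg : ∀ g ∈ Subgroup.normalizer (H : Set P),
      conjBy g A ≤ H ∧ H ≤ Subgroup.normalizer (conjBy g A : Set P) := by
    intro g hg
    refine ⟨?_, fun h hh => mem_normalizer_of_conj ?_⟩
    · rintro _ ⟨a, ha, rfl⟩
      exact hconjH g hg a (hAH ha)
    · rintro _ ⟨a, ha, rfl⟩
      have h' : g⁻¹ * h * g⁻¹⁻¹ ∈ H := hconjH g⁻¹ (inv_mem hg) h hh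
      refine ⟨(g⁻¹ * h * g⁻¹⁻¹) * a * (g⁻¹ * h * g⁻¹⁻¹)⁻¹,
        (Subgroup.mem_normalizer_iff.mp (hHA h') a).mp ha, ?_⟩
      simp only [MulEquiv.coe_toMonoidHom, MulAut.conj_apply]
      group
  obtain ⟨hAmH, hHAm⟩ := hAg b⁻¹ (inv_mem hbH)
  obtain ⟨hApH, hHAp⟩ := hAg b hbH
  have hcomm : ∀ {B C : Subgroup P} (hB : IsQuad ρ B) (hC : IsQuad ρ C), B ≤ H → C ≤ H →
      H ≤ Subgroup.normalizer (B : Set P) → H ≤ Subgroup.normalizer (C : Set P) →
      ∀ u ∈ nilPart hB, ∀ v ∈ nilPart hC,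
        u * v - v * u ∈ nilPart hB ∧ u * v - v * u ∈ nilPart hC := by
    intro B C hB hC hBH hCH hnB hnC u hu v hv
    obtain ⟨s, hs, hs'⟩ := id hu
    obtain ⟨t, ht, ht'⟩ := id hv
    refine ⟨?_, comm_mem hR h2 hC (hnC (hBH hs)) (by rw [← hs']; abel)
      (nilPart_mul hB u hu u hu) hv⟩
    have := comm_mem hR h2 hB (hnB (hCH ht)) (u := v) (by rw [← ht']; abel)
      (nilPart_mul hC v hv v hv) hu
    simpa using neg_mem this
  have hXm : ∀ x ∈ X0, (1 - y) * x * (1 + y) ∈ Xm := by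
    rintro _ ⟨a, ha, rfl⟩
    refine ⟨b⁻¹ * a * b⁻¹⁻¹, ⟨a, ha, rfl⟩, ?_⟩
    rw [rho_conj_sub_one, inv_inv, hbinv, hyb]
  have hXp : ∀ x ∈ X0, (1 + y) * x * (1 - y) ∈ Xp := by
    rintro _ ⟨a, ha, rfl⟩
    refine ⟨b * a * b⁻¹, ⟨a, ha, rfl⟩, ?_⟩
    rw [rho_conj_sub_one, hbinv, hyb]
  set L := lead (Tmap y) X0 with hL'
  have hLL : ∀ u ∈ L, ∀ v ∈ L, u * v = 0 := fun u hu v hv =>
    lead_mul_lead_eq_zero hb (nilPart_mul hA) hu hv
  -- the limit lies in `H`
  have hLH : ∀ r ∈ L, ∃ h ∈ H, ρ h = 1 + r := by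
    intro r hr
    obtain ⟨a₁, ha₁, b₁, hb₁, c₁, hc₁, he⟩ := lead_decomp hb hr
    obtain ⟨u, hu, v, hv, w, hw, hsum⟩ : ∃ u ∈ X0, ∃ v ∈ Xm, ∃ w ∈ Xp, r = u + v + w := by
      refine ⟨a₁ - c₁, sub_mem ha₁ hc₁,
        k • ((1 - y) * c₁ * (1 + y)) - k • ((1 - y) * b₁ * (1 + y)),
        sub_mem (zsmul_mem (hXm _ hc₁) _) (zsmul_mem (hXm _ hb₁) _),
        k • ((1 + y) * c₁ * (1 - y)) + k • ((1 + y) * b₁ * (1 - y)),
        add_mem (zsmul_mem (hXp _ hc₁) _) (zsmul_mem (hXp _ hb₁) _), ?_⟩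
      have e1 : (1 - y) * c₁ * (1 + y) + (1 + y) * c₁ * (1 - y) =
          (2 : ℤ) • (c₁ - y * c₁ * y) := by simp only [two_zsmul]; noncomm_ring
      have e2 : (1 + y) * b₁ * (1 - y) - (1 - y) * b₁ * (1 + y) =
          (2 : ℤ) • (y * b₁ - b₁ * y) := by simp only [two_zsmul]; noncomm_ring
      have e3 : a₁ - c₁ + (k • ((1 - y) * c₁ * (1 + y)) - k • ((1 - y) * b₁ * (1 + y))) +
          (k • ((1 + y) * c₁ * (1 - y)) + k • ((1 + y) * b₁ * (1 - y))) =
          a₁ - c₁ + k • ((1 - y) * c₁ * (1 + y) + (1 + y) * c₁ * (1 - y)) +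
          k • ((1 + y) * b₁ * (1 - y) - (1 - y) * b₁ * (1 + y)) := by
        simp only [smul_add, smul_sub]; abel
      rw [e3, e1, e2, smul_smul, smul_smul, mul_comm, hk, hk, he]
      abel
    obtain ⟨d₁, hd₁, d₂, hd₂, d₃, hd₃, hprod⟩ :=
      one_add_eq_prod hk (nilPart_mul hA) (nilPart_mul (isQuad_conjBy hA b⁻¹))
        (nilPart_mul (isQuad_conjBy hA b))
        (hcomm hA _ hAH hAmH hHA hHAm) (hcomm hA _ hAH hApH hHA hHAp)
        (hcomm _ _ hAmH hApH hHAm hHAp) hu hv hw (by rw [← hsum]; exact hLL r hr r hr)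
    have hin : ∀ {B : Subgroup P} (hB : IsQuad ρ B), B ≤ H → ∀ x ∈ nilPart hB,
        ∃ h ∈ H, ρ h = 1 + x := by
      rintro B hB hBH _ ⟨c, hc, rfl⟩
      exact ⟨c, hBH hc, by abel⟩
    obtain ⟨g1, hg1, e1⟩ := hin hA hAH u hu
    obtain ⟨g2, hg2, e2⟩ := hin _ hAmH v hv
    obtain ⟨g3, hg3, e3⟩ := hin _ hApH w hw
    obtain ⟨g4, hg4, e4⟩ := hin hA hAH d₁ hd₁
    obtain ⟨g5, hg5, e5⟩ := hin hA hAH d₂ hd₂
    obtain ⟨g6, hg6, e6⟩ := hin _ hAmH d₃ hd₃
    refine ⟨g1 * g2 * g3 * (g4 * g5 * g6),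
      mul_mem (mul_mem (mul_mem hg1 hg2) hg3) (mul_mem (mul_mem hg4 hg5) hg6), ?_⟩
    rw [hsum, hprod]
    simp only [map_mul, e1, e2, e3, e4, e5, e6]
  let A' : Subgroup P :=
    { carrier := {a | ρ a - 1 ∈ L}
      one_mem' := by
        show ρ 1 - 1 ∈ L
        rw [map_one, sub_self]; exact zero_mem _
      mul_mem' := fun {a c} ha hc => by
        show ρ (a * c) - 1 ∈ L
        have : ρ (a * c) - 1 = (ρ a - 1) * (ρ c - 1) + ((ρ a - 1) + (ρ c - 1)) := by
          rw [map_mul]; noncomm_ring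
        rw [this, hLL _ ha _ hc, zero_add]
        exact add_mem ha hc
      inv_mem' := fun {a} ha => by
        show ρ a⁻¹ - 1 ∈ L
        rw [rho_inv (y := ρ a - 1) (by abel) (hLL _ ha _ ha)]
        simpa using neg_mem (show ρ a - 1 ∈ L from ha) }
  have hA'H : A' ≤ H := by
    intro a ha
    obtain ⟨h, hh, he⟩ := hLH _ (show ρ a - 1 ∈ L from ha)
    rwa [hinj (show ρ a = ρ h by rw [he]; abel)]
  have hA'q : IsQuad ρ A' := fun a ha c hc => hLL _ ha _ hc
  refine ⟨A', hA'H, hA'q, ?_, ?_, ?_⟩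
  · have h1 : Nat.card A = Nat.card X0 := by
      refine Nat.card_congr (Equiv.ofBijective (fun a : A => (⟨ρ a - 1, mem_nilPart hA a.2⟩ : X0))
        ⟨fun a c h => Subtype.ext (hinj (sub_left_injective (congrArg Subtype.val h))), ?_⟩)
      rintro ⟨_, a, ha, rfl⟩
      exact ⟨⟨a, ha⟩, rfl⟩
    rw [h1]
    refine (card_le_lead_Tmap hb X0).trans ?_
    choose h hh he using hLH
    refine Nat.card_le_card_of_injective
      (fun r : L => (⟨h r r.2, show ρ (h r r.2) - 1 ∈ L by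
        rw [he, add_sub_cancel_left]; exact r.2⟩ : A')) ?_
    intro r s e'
    have : ρ (h r r.2) = ρ (h s s.2) := by rw [show h r r.2 = h s s.2 from congrArg Subtype.val e']
    rw [he, he] at this
    exact Subtype.ext (add_left_cancel this)
  · refine (card_le_lead_Smap hb _).trans (Nat.card_le_card_of_injective
      (fun r : lead (Smap y) (kann ρ e A) => (⟨r.1, fun a ha => ?_,
        leadS_mul_right hb (fun s hs => (hs : (∀ a ∈ A, (ρ a - 1) * s = 0) ∧ s * e = s).2) r.2⟩ : kann ρ e A')) ?_)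
    · refine lead_mul_leadS_eq_zero hb ?_ (show ρ a - 1 ∈ L from ha) r.2
      rintro _ ⟨c, hc, rfl⟩ s hs
      exact hs.1 c hc
    · intro r s h
      exact Subtype.ext (congrArg (fun t : kann ρ e A' => t.1) h)
  · have hconv : ∀ g a : P, ρ (g * a * g⁻¹) - 1 = ρ g * (ρ a - 1) * ρ g⁻¹ := by
      intro g a
      rw [map_mul, map_mul, mul_sub, sub_mul, mul_one, ← map_mul ρ g g⁻¹, mul_inv_cancel, map_one]
    refine sup_le (fun h hh => mem_normalizer_of_conj fun a ha => ?_)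
      ((Subgroup.closure_le _).mpr (Set.singleton_subset_iff.mpr
        (mem_normalizer_of_conj fun a ha => ?_)))
    · show ρ (h * a * h⁻¹) - 1 ∈ L
      rw [hconv]
      refine lead_conj_mem hp hp5 hR hb (fun n x hx => ?_) ha
      obtain ⟨c, hc, rfl⟩ := hx
      have hn : ∀ i : ℤ, b ^ i ∈ Subgroup.normalizer (H : Set P) := fun i => zpow_mem hbH i
      set h' := b ^ (-n) * h * (b ^ (-n))⁻¹ with hh'
      have hmem : h' ∈ H := hconjH _ (hn _) h hh
      refine ⟨h' * c * h'⁻¹, (Subgroup.mem_normalizer_iff.mp (hHA hmem) c).mp hc, ?_⟩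
      rw [hconv, hh', mul_inv_rev, mul_inv_rev, inv_inv, ← zpow_neg, neg_neg]
      simp only [map_mul, rho_zpow hyb hb, neg_smul, ← sub_eq_add_neg, mul_assoc]
    · show ρ (b * a * b⁻¹) - 1 ∈ L
      rw [hconv, hyb, hbinv]
      set r := ρ a - 1
      have hr : r ∈ L := ha
      have h1 := lead_comm_mem hb hr
      have h1' := lead_comm_mem hb h1
      have e1 : (1 + y) * r * (1 - y) =
          r - (r * y - y * r) + k • ((r * y - y * r) * y - y * (r * y - y * r)) := by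
        have e2 : (r * y - y * r) * y - y * (r * y - y * r) = (2 : ℤ) • (-(y * r * y)) := by
          calc (r * y - y * r) * y - y * (r * y - y * r)
              = r * (y * y) + (y * y) * r + (2 : ℤ) • (-(y * r * y)) := by
                simp only [two_zsmul]; noncomm_ring
            _ = _ := by rw [hb]; simp
        rw [e2, smul_smul, mul_comm k 2, hk]
        noncomm_ring
      rw [e1]
      exact add_mem (sub_mem hr h1) (zsmul_mem h1' _)

/-- In a finite `p`-group a quadratic subgroup may be replaced by one of at least the same measure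
that is normalised by a normal subgroup containing it. -/
theorem exists_normalized [Finite R] {p : ℕ} (hp : p.Prime) (hp5 : 5 ≤ p) (hR : (p : R) = 0)
    (hP : IsPGroup p P) (hinj : Function.Injective ρ) {A0 : Subgroup P} (h0 : IsQuad ρ A0) :
    ∃ A K : Subgroup P, K.Normal ∧ A ≤ K ∧ K ≤ Subgroup.normalizer (A : Set P) ∧ IsQuad ρ A ∧
      Nat.card A0 ≤ Nat.card A ∧ Nat.card (kann ρ e A0) ≤ Nat.card (kann ρ e A) := by
  haveI := Fact.mk hp
  haveI : Group.IsNilpotent P := hP.isNilpotent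
  set D : Set P := {x | ∃ g : P, ∃ a ∈ A0, x = g * a * g⁻¹} with hD
  set K := Subgroup.closure D with hK'
  have hDc : ∀ g : P, ∀ x ∈ D, g * x * g⁻¹ ∈ D := by
    rintro g _ ⟨h, a, ha, rfl⟩
    exact ⟨g * h, a, ha, by group⟩
  have hDq : ∀ x ∈ D, (ρ x - 1) * (ρ x - 1) = 0 := by
    rintro _ ⟨g, a, ha, rfl⟩
    exact isQuad_conjBy h0 g _ ⟨a, ha, rfl⟩ _ ⟨a, ha, rfl⟩
  have hA0D : (A0 : Set P) ⊆ D := fun a ha => ⟨1, a, ha, by simp⟩
  let Good : Subgroup P → Prop := fun H => H ≤ K ∧ H = Subgroup.closure ((H : Set P) ∩ D) ∧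
    ∃ A : Subgroup P, A ≤ H ∧ H ≤ Subgroup.normalizer (A : Set P) ∧ IsQuad ρ A ∧
      Nat.card A0 ≤ Nat.card A ∧ Nat.card (kann ρ e A0) ≤ Nat.card (kann ρ e A)
  obtain ⟨H, ⟨hHK, hHgen, A, hAH, hHA, hAq, hc1, hc2⟩, hmax⟩ :=
    Set.Finite.exists_maximal (s := {H | Good H}) (Set.toFinite _) ⟨A0, by
      refine ⟨fun a ha => Subgroup.subset_closure (hA0D ha), ?_, A0, le_rfl,
        Subgroup.le_normalizer, h0, le_rfl, le_rfl⟩
      rw [Set.inter_eq_left.mpr hA0D, Subgroup.closure_eq]⟩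
  have hHeq : H = K := by
    by_contra hne
    have hlt : H < K := lt_of_le_of_ne hHK hne
    obtain ⟨d, hd, hdH, hdn⟩ : ∃ d ∈ D, d ∉ H ∧ d ∈ Subgroup.normalizer (H : Set P) := by
      by_contra hno
      push Not at hno
      set N := Subgroup.normalizer (H : Set P) ⊓ K with hN
      have hfix : ∀ n ∈ Subgroup.normalizer (N : Set P), n ∈ Subgroup.normalizer (H : Set P) := by
        intro n hn
        refine mem_normalizer_of_conj fun x hx => ?_
        rw [hHgen] at hx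
        induction hx using Subgroup.closure_induction with
        | mem z hz =>
          have hzN : z ∈ N := ⟨Subgroup.le_normalizer hz.1, hHK hz.1⟩
          have h1 := (Subgroup.mem_normalizer_iff.mp hn z).mp hzN
          by_contra hnH
          exact hno _ (hDc n z hz.2) hnH h1.1
        | one => simp
        | mul a b _ _ iha ihb =>
          have : n * (a * b) * n⁻¹ = n * a * n⁻¹ * (n * b * n⁻¹) := by group
          rw [this]; exact mul_mem iha ihb
        | inv a _ iha =>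
          have : n * a⁻¹ * n⁻¹ = (n * a * n⁻¹)⁻¹ := by group
          rw [this]; exact inv_mem iha
      have hNK : N = K := by
        by_contra hne'
        have hlt' : N.subgroupOf K < ⊤ := by
          rw [lt_top_iff_ne_top, Ne, Subgroup.subgroupOf_eq_top]
          exact fun h => hne' (le_antisymm inf_le_right h)
        have := Group.normalizerCondition_of_isNilpotent _ hlt'
        obtain ⟨x, hx, hxN⟩ := SetLike.exists_of_lt this
        apply hxN
        rw [Subgroup.mem_subgroupOf]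
        refine ⟨hfix x ?_, x.2⟩
        rw [Subgroup.mem_normalizer_iff] at hx ⊢
        intro z
        by_cases hz : z ∈ K
        · have := hx ⟨z, hz⟩
          simpa [Subgroup.mem_subgroupOf] using this
        · refine ⟨fun h => absurd h.2 hz, fun h => absurd ?_ hz⟩
          have := mul_mem (mul_mem (inv_mem x.2) h.2) x.2
          simpa [mul_assoc] using this
      have hDH : D ⊆ H := fun d hd => by
        by_contra hdH
        exact hno d hd hdH (hNK.ge (Subgroup.subset_closure hd)).1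
      exact hlt.not_ge ((Subgroup.closure_le _).mpr hDH)
    obtain ⟨A', hA'H, hA'q, hc1', hc2', hnorm⟩ :=
      step (e := e) hp hp5 hR hinj hAH hHA hAq (hDq d hd) hdn
    have hgood : Good (H ⊔ Subgroup.closure {d}) := by
      refine ⟨sup_le hHK ((Subgroup.closure_le _).mpr (Set.singleton_subset_iff.mpr
        (Subgroup.subset_closure hd))), ?_, A', hA'H.trans le_sup_left, hnorm, hA'q,
        hc1.trans hc1', hc2.trans hc2'⟩
      refine le_antisymm (sup_le (hHgen.le.trans (Subgroup.closure_mono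
        (Set.inter_subset_inter_left _ fun x hx => Subgroup.mem_sup_left hx))) ?_)
        ((Subgroup.closure_le _).mpr Set.inter_subset_left)
      exact Subgroup.closure_mono (Set.singleton_subset_iff.mpr
        ⟨Subgroup.mem_sup_right (Subgroup.subset_closure rfl), hd⟩)
    exact hdH (hmax hgood le_sup_left (Subgroup.mem_sup_right (Subgroup.subset_closure rfl)))
  refine ⟨A, K, ⟨fun x hx g => ?_⟩, hHeq ▸ hAH, hHeq ▸ hHA, hAq, hc1, hc2⟩
  induction hx using Subgroup.closure_induction with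
  | mem z hz => exact Subgroup.subset_closure (hDc g z hz)
  | one => simp
  | mul a b _ _ iha ihb =>
    have : g * (a * b) * g⁻¹ = g * a * g⁻¹ * (g * b * g⁻¹) := by group
    rw [this]; exact mul_mem iha ihb
  | inv a _ iha =>
    have : g * a⁻¹ * g⁻¹ = (g * a * g⁻¹)⁻¹ := by group
    rw [this]; exact inv_mem iha

end Cfsg.Agent.TwoSubnormal
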